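import Cfsg.Agent.TICentralizers.Basic
import Cfsg.Agent.FrobSystem.Classify
import Cfsg.Agent.SuzukiUnique.Model

/-!
# Groups in which every element centraliser is a TI-subgroup: classification

Solvability of groups of odd order is a hypothesis.
-/

set_option autoImplicit false
set_option linter.unusedSectionVars false

namespace CfsgLib.TICentralizers

open scoped Pointwise
open CfsgLib.CN

theorem quaternion_le_one {n : ℕ} (hQ : Hyp (QuaternionGroup (2 ^ n))) : n ≤ 1 := by
  by_contra hn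
  set N := 2 ^ n with hN
  have h4 : 4 ≤ N := hN ▸ (show 4 = 2 ^ 2 by norm_num) ▸ Nat.pow_le_pow_right (by norm_num) (by omega)
  haveI : NeZero N := ⟨by omega⟩
  haveI : NeZero (2 * N) := ⟨by omega⟩
  have hneg : -((N : ℕ) : ZMod (2 * N)) = (N : ZMod (2 * N)) := by
    rw [neg_eq_iff_add_eq_zero, ← Nat.cast_add, ← two_mul, ZMod.natCast_self]
  have hy : QuaternionGroup.a (n := N) (N : ZMod (2 * N)) ≠ 1 := fun h => by
    rw [QuaternionGroup.one_def, QuaternionGroup.a.injEq, ZMod.natCast_eq_zero_iff] at h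
    have := Nat.le_of_dvd (by omega) h
    omega
  have hyx : Commute (QuaternionGroup.a (n := N) (N : ZMod (2 * N))) (QuaternionGroup.xa 0) := by
    show _ * _ = _ * _
    rw [QuaternionGroup.a_mul_xa, QuaternionGroup.xa_mul_a, zero_sub, zero_add, hneg]
  have hgy : QuaternionGroup.a (n := N) 1 * QuaternionGroup.a (N : ZMod (2 * N)) *
      (QuaternionGroup.a (n := N) 1)⁻¹ = QuaternionGroup.a (N : ZMod (2 * N)) := by
    rw [mul_inv_eq_iff_eq_mul, QuaternionGroup.a_mul_a, QuaternionGroup.a_mul_a, add_comm]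
  have h := hQ (QuaternionGroup.xa 0) (QuaternionGroup.a (N : ZMod (2 * N))) (QuaternionGroup.a 1) hy hyx
    (by rw [hgy]; exact hyx) _ (Commute.refl _)
  have hinv : (QuaternionGroup.a (n := N) 1)⁻¹ = QuaternionGroup.a (-1) :=
    inv_eq_of_mul_eq_one_right (by rw [QuaternionGroup.a_mul_a, add_neg_cancel, QuaternionGroup.one_def])
  rw [hinv, QuaternionGroup.a_mul_xa, QuaternionGroup.xa_mul_a] at h
  have h' := h.eq
  rw [QuaternionGroup.xa_mul_xa, QuaternionGroup.xa_mul_xa, QuaternionGroup.a.injEq] at h'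
  have h4' : ((4 : ℕ) : ZMod (2 * N)) = 0 := by
    push_cast
    linear_combination h'
  rw [ZMod.natCast_eq_zero_iff] at h4'
  have := Nat.le_of_dvd (by norm_num) h4'
  omega

variable {G : Type*} [Group G] [Finite G]

theorem classify_solvable_radical (hG : Hyp G) {R : Subgroup G} (hR : R.Normal)
    (hRs : Group.IsSolvable R) (hR1 : R ≠ ⊥) :
    Group.IsNilpotent G ∨
      ∃ H : Subgroup G, Cfsg.IsFrobeniusComplement H ∧
        (IsCyclic H ∨ ∃ m : ℕ, Odd m ∧ Nonempty (H ≃* Multiplicative (ZMod m) × QuaternionGroup 2)) := by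
  obtain ⟨M, hM, hMn, hM1⟩ := exists_normal_maxNilpotent hG hR hRs hR1
  by_cases hMt : M = ⊤
  · left
    have h := hM.1
    rw [hMt] at h
    exact Group.nilpotent_of_mulEquiv Subgroup.topEquiv
  right
  haveI := hMn
  obtain ⟨E, -, hE, hfpf, -⟩ := exists_frobenius_complement hG.isCNGroup hM hMn hM1 hMt
  obtain ⟨p, hp, d, ρ, hnt, hρ⟩ := exists_rep_of_fpf E M hM1 hfpf
  haveI := hnt
  have hnil := isNilpotent_of_fpf hρ (isCNGroup_subgroup hG.isCNGroup E)
  refine ⟨E, hE, ?_⟩
  rcases cyclic_or_quaternion_product hρ hnil with h | ⟨C, Q, hsup, hcomm, hC, hCo, n, ⟨e⟩⟩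
  · exact Or.inl h
  haveI := hC
  haveI : NeZero (2 ^ n) := ⟨by positivity⟩
  have hn : n ≤ 1 := quaternion_le_one (((hG.of_injective E.subtype Subtype.val_injective).of_injective
    Q.subtype Subtype.val_injective).of_injective e.symm.toMonoidHom e.symm.injective)
  have hQcard : Nat.card Q = 4 * 2 ^ n := by
    rw [Nat.card_congr e.toEquiv, Nat.card_eq_fintype_card, QuaternionGroup.card]
  let f : C × Q →* E :=
    { toFun := fun x => (x.1 : E) * x.2
      map_one' := by simp
      map_mul' := fun x y => by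
        simp only [Prod.fst_mul, Prod.snd_mul, Subgroup.coe_mul]
        have := hcomm _ y.1.2 _ x.2.2
        calc (x.1 : E) * y.1 * (x.2 * y.2) = x.1 * ((y.1 : E) * x.2) * y.2 := by group
          _ = x.1 * ((x.2 : E) * y.1) * y.2 := by rw [this]
          _ = _ := by group }
  have hcop : (Nat.card C).Coprime (Nat.card Q) := by
    have h2 : (Nat.card C).Coprime 2 := hCo.coprime_two_right
    rw [hQcard, show 4 * 2 ^ n = 2 ^ (n + 2) by ring]
    exact h2.pow_right _
  have hf : Function.Bijective f := by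
    refine ⟨(injective_iff_map_eq_one _).2 fun x hx => ?_, fun y => ?_⟩
    · have h1 : (x.1 : E) = (x.2 : E)⁻¹ := eq_inv_of_mul_eq_one_left hx
      have h2 : (x.1 : E) ∈ C ⊓ Q := ⟨x.1.2, h1 ▸ Q.inv_mem x.2.2⟩
      rw [inf_eq_bot_of_coprime hcop, Subgroup.mem_bot] at h2
      rw [h2, eq_comm, inv_eq_one] at h1
      exact Prod.ext (Subtype.ext h2) (Subtype.ext h1)
    · have hle : C ⊔ Q ≤ f.range := sup_le (fun c hc => ⟨(⟨c, hc⟩, 1), mul_one c⟩)
        (fun q hq => ⟨(1, ⟨q, hq⟩), one_mul q⟩)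
      exact hle (hsup ▸ Subgroup.mem_top y)
  rcases Nat.le_one_iff_eq_zero_or_eq_one.1 hn with rfl | rfl
  · left
    haveI : IsCyclic (QuaternionGroup (2 ^ 0)) := QuaternionGroup.quaternionGroup_one_isCyclic
    haveI : IsCyclic Q := isCyclic_of_surjective e.symm e.symm.surjective
    refine CfsgLib.Frobenius.Linear.isCyclic_of_comm hρ fun a b => ?_
    obtain ⟨x, rfl⟩ := hf.2 a
    obtain ⟨y, rfl⟩ := hf.2 b
    letI := IsCyclic.commGroup (α := C)
    letI := IsCyclic.commGroup (α := Q)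
    rw [← map_mul, ← map_mul]
    exact congrArg f (Prod.ext (mul_comm x.1 y.1) (mul_comm x.2 y.2))
  · exact Or.inr ⟨Nat.card C, hCo, ⟨(MulEquiv.ofBijective f hf).symm.trans
      (MulEquiv.prodCongr (zmodCyclicMulEquiv hC).symm e)⟩⟩
where
  inf_eq_bot_of_coprime {H : Type _} [Group H] {A B : Subgroup H}
      (h : (Nat.card A).Coprime (Nat.card B)) : A ⊓ B = ⊥ :=
    Subgroup.inf_eq_bot_of_coprime h

section Suzuki

open CfsgLib.SuzukiUnique CfsgLib.Suzuki

/-- The Suzuki groups do not have the TI property. -/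
theorem not_hyp_grp {F : Type*} [Field F] [CharP F 2] [Finite F] {θ : F →+* F} (hT : TitsEndo θ) :
    ¬ Hyp (grp θ) := by
  intro h
  obtain ⟨r, hr0, hr1⟩ := hT.big
  set S := modelSys hT
  set φ := thetaEquiv hT
  have hinj : ∀ {x y x' y' : F}, S.u x y = S.u x' y' → x = x' ∧ y = y' := by
    intro x y x' y' e
    have e' : S.u x y * S.t 1 * S.v * S.u 0 0 = S.u x' y' * S.t 1 * S.v * S.u 0 0 := by rw [e]
    exact ⟨(S.canon e').1, (S.canon e').2.1⟩
  have hcen : ∀ z x y : F, Commute (S.u 0 z) (S.u x y) := fun z x y => by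
    show _ * _ = _ * _
    rw [S.mul, S.mul]; simp [add_comm]
  suffices key : ∀ l : Fˣ, φ (l : F) = (l : F) by
    have e : ∀ x : F, φ x = x := fun x => by
      by_cases hx : x = 0
      · simp [hx]
      · exact key (Units.mk0 x hx)
    have h2 : r ^ 2 = r := by
      rw [← hT.sq r, ← thetaEquiv_apply hT, ← thetaEquiv_apply hT, e, e]
    exact hr1 (mul_left_cancel₀ hr0 (by rw [mul_one, ← pow_two, h2]))
  intro l
  have h1 := h (S.u 1 0) (S.u 0 1) (S.t l) (fun e => one_ne_zero (hinj (e.trans S.u_zero.symm)).2)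
    (hcen 1 1 0) (by rw [S.conj, mul_zero]; exact hcen _ 1 0) _ (Commute.refl _)
  rw [S.conj] at h1
  have e := h1.eq
  rw [S.mul, S.mul] at e
  simpa using (hinj e).2

end Suzuki

open CfsgLib.FrobSystem in
/-- Without solvable normal subgroup. -/
theorem classify_simple (hG : Hyp G) (hrad : ∀ N : Subgroup G, N.Normal → Group.IsSolvable N → N = ⊥)
    (hFT : ∀ H : Subgroup G, Odd (Nat.card H) → Group.IsSolvable H) [Nontrivial G] :
    ∃ (K : Type) (_ : Field K) (_ : Fintype K), (∃ n : ℕ, 2 ≤ n ∧ Fintype.card K = 2 ^ n) ∧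
      Nonempty (G ≃* Matrix.SpecialLinearGroup (Fin 2) K) := by
  haveI : Fact (Nat.Prime 2) := ⟨Nat.prime_two⟩
  obtain ⟨T⟩ : Nonempty (Sylow 2 G) := inferInstance
  obtain ⟨M, hM, hTM⟩ := CN.exists_maxNilpotent T.2.isNilpotent
  have heven : 2 ∣ Nat.card G := by
    by_contra h2
    have ho : Odd (Nat.card (⊤ : Subgroup G)) := by
      rw [Subgroup.card_top, ← Nat.not_even_iff_odd, even_iff_two_dvd]; exact h2
    exact top_ne_bot (hrad ⊤ inferInstance (hFT ⊤ ho))
  have hM1 : M ≠ ⊥ := fun e => T.ne_bot_of_dvd_card heven (eq_bot_iff.2 (e ▸ hTM))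
  have hMs : Group.IsSolvable M := haveI := hM.1; inferInstance
  set N := Subgroup.normalizer (M : Set G)
  have hN : N ≠ ⊤ := fun e => hM1 (hrad M (Subgroup.normalizer_eq_top_iff.1 e) hMs)
  have S : Sys N M := by
    refine ⟨Subgroup.le_normalizer, le_rfl, fun a ha haM x hx hc => ?_, fun g hg => ?_, hM1, hN, hFT, hrad⟩
    · by_contra hx1
      exact haM (hG.centralizer_le hM hx hx1 hc.symm)
    · rw [Subgroup.eq_bot_iff_forall]
      rintro x ⟨hx, hxg⟩
      obtain ⟨y, hy, rfl⟩ := hxg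
      by_contra hx1
      exact hg (hG.ti hM hy (fun e => hx1 (by simp [e])) hx)
  rcases S.classify (hTM.trans Subgroup.le_normalizer) with h | ⟨F, iF, iT, m, hm, hF, ⟨e⟩⟩
  · exact h
  · exfalso
    haveI := CfsgLib.Suzuki.charP_two hF
    have e' := (e.trans (CfsgLib.Suzuki.lieSzEquiv hm hF).symm).trans
      (MulEquiv.subgroupCongr (CfsgLib.Suzuki.sz_eq (m := m)))
    exact not_hyp_grp (CfsgLib.Suzuki.titsEndo_theta hm hF)
      (hG.of_injective e'.symm.toMonoidHom e'.symm.injective)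

/-- The classification. -/
theorem classify (hG : Hyp G) (hFT : ∀ H : Subgroup G, Odd (Nat.card H) → Group.IsSolvable H) :
    Group.IsNilpotent G ∨
    (∃ H : Subgroup G, Cfsg.IsFrobeniusComplement H ∧
      (IsCyclic H ∨ ∃ m : ℕ, Odd m ∧ Nonempty (H ≃* Multiplicative (ZMod m) × QuaternionGroup 2))) ∨
    (∃ n : ℕ, 2 ≤ n ∧ Nonempty (G ≃* Matrix.ProjectiveSpecialLinearGroup (Fin 2) (GaloisField 2 n))) := by
  rcases subsingleton_or_nontrivial G with hs | hnt
  · exact Or.inl inferInstance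
  by_cases hR : ∃ R : Subgroup G, R.Normal ∧ Group.IsSolvable R ∧ R ≠ ⊥
  · obtain ⟨R, hR, hRs, hR1⟩ := hR
    rcases classify_solvable_radical hG hR hRs hR1 with h | h
    · exact Or.inl h
    · exact Or.inr (Or.inl h)
  push Not at hR
  obtain ⟨K, iK, iT, ⟨n, hn, hK⟩, ⟨e⟩⟩ := classify_simple hG hR hFT
  refine Or.inr (Or.inr ⟨n, hn, ⟨e.trans ?_⟩⟩)
  haveI : Fact (Nat.Prime 2) := ⟨Nat.prime_two⟩
  haveI : Fintype (GaloisField 2 n) := Fintype.ofFinite _
  let f : K ≃+* GaloisField 2 n := FiniteField.ringEquivOfCardEq (by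
    rw [hK, ← Nat.card_eq_fintype_card, GaloisField.card 2 n (by omega)])
  haveI : CharP (GaloisField 2 n) 2 := inferInstance
  exact MulEquiv.trans
    { toFun := Matrix.SpecialLinearGroup.map (f : K →+* GaloisField 2 n)
      invFun := Matrix.SpecialLinearGroup.map (f.symm : GaloisField 2 n →+* K)
      left_inv := fun s => by ext i j; simp
      right_inv := fun s => by ext i j; simp
      map_mul' := map_mul _ }
    (CfsgLib.CAGroups.mulEquivPslOfSl2 (GaloisField 2 n))

end CfsgLib.TICentralizers
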